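import Cfsg.Agent.H876.OT.NoEl
import Cfsg.Agent.H18.OT.G2
import Cfsg.Agent.H179.OT.Fix
import Cfsg.Agent.H3.OT.Weyl

/-!
# S2539, part 5: elements of `N_F(T)` whose square is central (helper65)

`geo_F4`, `geo_G2` : `x ∈ N_F(T)`, `x² ∈ Z(F)`: `x` inverts `T` modulo `Z(F)` or commutes with a one-parameter torus `h_r`
with `h_r(g)² ∉ Z(F)`.
-/

set_option autoImplicit false

namespace Cfsg.Agent.H65.OT

open Subgroup Cfsg.Lie Cfsg.Lie.ChevalleyDatum Cfsg.Agent.H412.OT Cfsg.Agent.H186.OT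
open Cfsg.Agent.ChevalleyStructure Cfsg.Agent.ChevalleyStructure.Elts

universe u

variable {K : Type u} [Field K]

/-- a power of a generator with a small exponent -/
theorem pow_ne [Fintype K] (hq : 13 ≤ Fintype.card K) {g : Kˣ} (hg : orderOf g = Fintype.card K - 1) {k : ℤ}
    (hk : k ≠ 0) (h2 : -12 < 2 * k) (h3 : 2 * k < 12) :
    ((g : K) ^ k) ^ 2 ≠ 1 := by
  intro h
  have h4 : ((g : K)) ^ (k * 2) = (g : K) ^ (0 : ℤ) := by
    rw [zpow_mul, zpow_zero]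
    exact_mod_cast h
  have h5 := Cfsg.Agent.H18.OT.eq_of_zpow hg h4
  rw [sub_zero] at h5
  have h6 : k * 2 = 0 := by
    apply Int.eq_zero_of_abs_lt_dvd h5
    have hc : (12 : ℤ) ≤ ((Fintype.card K - 1 : ℕ) : ℤ) := by
      have : 12 ≤ Fintype.card K - 1 := by omega
      exact_mod_cast this
    rw [abs_lt]
    constructor <;> linarith
  omega

section F4

/-- **`F4`** -/
theorem geo_F4 [Fintype K] (hq : 13 ≤ Fintype.card K) {F : Subgroup (GL chevF4.Idx K)}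
    (hT : chevF4.diagonalSubgroup K ≤ F) (hFG : F ≤ chevF4.group K)
    (hmem : ∀ t ∈ chevF4.diagonalSubgroup K, (∀ a ∈ Psi chevF4 K F, chi chevF4 K t a = 1) → t ∈ Zf F)
    (hD : InList chevF4)
    {g : Kˣ} (hg : orderOf g = Fintype.card K - 1) {x : GL chevF4.Idx K} (hxF : x ∈ F)
    (hx : x ∈ normalizer (chevF4.diagonalSubgroup K : Set (GL chevF4.Idx K))) (hx2 : x ^ 2 ∈ Zf F)
    (_hZ : Zf F ≤ chevF4.diagonalSubgroup K) :
    (∀ t ∈ chevF4.diagonalSubgroup K, x * t * x⁻¹ * t ∈ Zf F) ∨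
      ∃ r, r < chevF4.nroots ∧ x * hG hD r (g : K) = hG hD r (g : K) * x ∧ (hG hD r (g : K)) ^ 2 ∉ Zf F := by
  have h5 : H876.OT.Five chevF4 := by unfold H876.OT.Five; simp
  have hm := H3.OT.mem_monomial_of_norm hD (by rw [Nat.card_eq_fintype_card]; omega) (hFG hxF) hx
  set w : Equiv.Perm (Fin chevF4.nroots) := Cfsg.Agent.ChevalleyStructure.NPerm.permHom hD K ⟨x, hm⟩ with hw0
  have hw : H876.OT.Afford chevF4 K x w := ⟨H3.OT.pr_perm hD ⟨x, hm⟩, fun t ht s => H3.OT.chi_perm hD ⟨x, hm⟩ ht s⟩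
  have hww : ∀ s, w (w s) = s := hw.sq h5 hq hx fun t ht => ((mem_Zf.1 hx2).2 t (hT ht)).symm
  by_cases hall : ∀ a : Fin chevF4.nroots, (a : ℕ) ∈ Psi chevF4 K F → (w a : ℕ) = chevF4.neg a
  · left
    intro t ht
    have hxt : x * t * x⁻¹ ∈ chevF4.diagonalSubgroup K := H876.OT.conj_mem hx ht
    refine hmem _ (mul_mem hxt ht) fun a ha => ?_
    have h1 := hw.chi t ht (w ⟨a, ha.1⟩)
    rw [hww, hall ⟨a, ha.1⟩ ha] at h1
    change chi chevF4 K (x * t * x⁻¹) a = chi chevF4 K t (chevF4.neg a) at h1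
    rw [chi_mul hD hxt ht, h1, h5.chi_neg ht ha.1, inv_mul_cancel₀ (chi_ne_zero hD ht a)]
  · right
    push Not at hall
    obtain ⟨a, ha, hne⟩ := hall
    have hpm := H876.OT.prMap_toN hw.pr hww
    obtain ⟨r, hr, hwr, hpr⟩ := H179.OT.F4.exists_fixed (w := H876.OT.toN w) (fun g hg => hpm.lt hg)
      (fun g hg => hpm.inv hg) (fun r hr s hs => hpm.pr hr hs) a.2 (by rw [H876.OT.toN_of_lt]; exact hne)
    have hwr' : w ⟨r, hr⟩ = ⟨r, hr⟩ := by
      apply Fin.ext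
      rw [← H876.OT.toN_of_lt]
      exact hwr
    refine ⟨r, hr, ?_, fun h7 => ?_⟩
    · have h2 := hw.conj_h hD hx g.ne_zero ⟨r, hr⟩
      rw [hwr'] at h2
      exact mul_inv_eq_iff_eq_mul.1 h2
    · have h8 := ha.2 _ h7
      have hrT := hG_mem (K := K) hD hr g.ne_zero
      rw [pow_two, chi_mul hD hrT hrT, ← pow_two, chi_hG hD hr a.2 g.ne_zero] at h8
      have hb := h5.bound hr a.2
      exact pow_ne hq hg hpr (by linarith [hb.1]) (by linarith [hb.2]) h8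

end F4

section G2

open Cfsg.Agent.H18.OT (R P ng)

/-- long root -/
def Lg (r : R) : Prop := ∀ s : R, s ≠ r → s ≠ ng r → |P r s| ≤ 1

instance (r : R) : Decidable (Lg r) := by unfold Lg; infer_instance

theorem lg_iff (r : R) : Lg r ↔ IsLong chevG2 r := by
  constructor
  · intro h
    refine ⟨r.2, fun s hs h1 h2 => h ⟨s, hs⟩ (fun e => h1 (congrArg Fin.val e)) fun e => h2 ?_⟩
    rw [H18.OT.tab_neg_eq r]
    exact congrArg Fin.val e
  · intro h s h1 h2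
    refine h.2 s s.2 (fun e => h1 (Fin.ext e)) fun e => h2 (Fin.ext ?_)
    rw [e, H18.OT.tab_neg_eq r]

/-- a root orthogonal to a short root is long and only `± s` are orthogonal to it -/
theorem tab : ∀ r s : R, P r s = 0 → ¬ Lg s → Lg r ∧ ∀ a : R, a ≠ s → a ≠ ng s → P r a ≠ 0 := by
  decide +kernel

theorem tab_neg : ∀ r s : R, P r (ng s) = - P r s := by decide +kernel

theorem geo_G2 [Fintype K] (hq : 13 ≤ Fintype.card K) {F : Subgroup (GL chevG2.Idx K)}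
    (hT : chevG2.diagonalSubgroup K ≤ F) (hFG : F ≤ chevG2.group K)
    (hmem : ∀ t ∈ chevG2.diagonalSubgroup K, (∀ a ∈ Psi chevG2 K F, chi chevG2 K t a = 1) → t ∈ Zf F)
    (hD : InList chevG2)
    {g : Kˣ} (hg : orderOf g = Fintype.card K - 1) {x : GL chevG2.Idx K} (hxF : x ∈ F)
    (hx : x ∈ normalizer (chevG2.diagonalSubgroup K : Set (GL chevG2.Idx K))) (hx2 : x ^ 2 ∈ Zf F)
    (_hZ : Zf F ≤ chevG2.diagonalSubgroup K) {s : ℕ} (hS : SF chevG2 K F = {s, chevG2.neg s})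
    (hs : ¬ IsLong chevG2 s) (hnn : ∃ a ∈ Psi chevG2 K F, a ≠ s ∧ a ≠ chevG2.neg s ∧ pr chevG2 s a ≠ 0) :
    (∀ t ∈ chevG2.diagonalSubgroup K, x * t * x⁻¹ * t ∈ Zf F) ∨
      ∃ r, r < chevG2.nroots ∧ (IsLong chevG2 r ∨ r = s) ∧ x * hG hD r (g : K) = hG hD r (g : K) * x ∧
        (hG hD r (g : K)) ^ 2 ∉ Zf F := by
  have hm := H3.OT.mem_monomial_of_norm hD (by rw [Nat.card_eq_fintype_card]; omega) (hFG hxF) hx
  set w : Equiv.Perm R := Cfsg.Agent.ChevalleyStructure.NPerm.permHom hD K ⟨x, hm⟩ with hw0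
  have hw : H18.OT.Afford x w := ⟨H3.OT.pr_perm hD ⟨x, hm⟩, fun t ht s => H3.OT.chi_perm hD ⟨x, hm⟩ ht s⟩
  have hww : ∀ s, w (w s) = s := hw.sq hq hx fun t ht => ((mem_Zf.1 hx2).2 t (hT ht)).symm
  have hsm : s ∈ SF chevG2 K F := by
    rw [hS]
    exact Or.inl rfl
  obtain ⟨a, ha, has, hans, hpa⟩ := hnn
  -- the conclusion for a root fixed by `w`
  have key : ∀ r : R, w r = r → P r ⟨a, ha.1⟩ ≠ 0 → (IsLong chevG2 r ∨ (r : ℕ) = s) →
      ∃ r, r < chevG2.nroots ∧ (IsLong chevG2 r ∨ r = s) ∧ x * hG hD r (g : K) = hG hD r (g : K) * x ∧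
        (hG hD r (g : K)) ^ 2 ∉ Zf F := by
    intro r hwr hP hr
    refine ⟨r, r.2, hr, ?_, fun h7 => ?_⟩
    · have h2 := hw.conj_h hx g.ne_zero r
      rw [hwr] at h2
      exact mul_inv_eq_iff_eq_mul.1 h2
    · have h8 := ha.2 _ h7
      have hrT := hG_mem (K := K) hD r.2 g.ne_zero
      rw [pow_two, chi_mul hD hrT hrT, ← pow_two, chi_hG hD r.2 ha.1 g.ne_zero] at h8
      have hb := H18.OT.P_bd r ⟨a, ha.1⟩
      unfold H18.OT.P at hb hP
      exact pow_ne hq hg hP (by linarith [hb.1]) (by linarith [hb.2]) h8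
  rcases H18.OT.w_two hw.pr hww with ⟨r, hr⟩ | hneg
  · right
    -- `w s = ± s`
    have hws : ((w ⟨s, hsm.1⟩ : R) : ℕ) ∈ SF chevG2 K F := by
      refine ⟨(w ⟨s, hsm.1⟩).2, fun y hy => ?_⟩
      obtain ⟨b, rfl⟩ := (mem_rootSubgroup_iff hD _ y).1 hy
      obtain ⟨c, hc, h⟩ := H3.OT.conj_xG hD ⟨x, hm⟩ ⟨s, hsm.1⟩
      have h1 := h (c⁻¹ * b)
      rw [mul_inv_cancel_left₀ hc] at h1
      change x * xG hD s (c⁻¹ * b) * x⁻¹ = xG hD (w ⟨s, hsm.1⟩) b at h1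
      rw [← h1]
      exact mul_mem (mul_mem hxF (hsm.2 (xG_mem_rootSubgroup hD s _))) (inv_mem hxF)
    rw [hS] at hws
    rcases hws with h1 | h1
    · exact key ⟨s, hsm.1⟩ (Fin.ext h1) hpa (Or.inr rfl)
    · have h1' : w ⟨s, hsm.1⟩ = ng ⟨s, hsm.1⟩ := by
        apply Fin.ext
        rw [← H18.OT.tab_neg_eq]
        exact h1
      have h2 : P r ⟨s, hsm.1⟩ = 0 := by
        have h3 := hw.pr r ⟨s, hsm.1⟩
        rw [hr, h1', tab_neg] at h3
        omega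
      have hs' : ¬ Lg (⟨s, hsm.1⟩ : R) := fun h => hs ((lg_iff _).1 h)
      obtain ⟨h3, h4⟩ := tab r ⟨s, hsm.1⟩ h2 hs'
      refine key r hr (h4 ⟨a, ha.1⟩ (fun e => has (congrArg Fin.val e)) fun e => hans ?_) (Or.inl ((lg_iff r).1 h3))
      rw [show s = ((⟨s, hsm.1⟩ : R) : ℕ) from rfl, H18.OT.tab_neg_eq]
      exact congrArg Fin.val e
  · left
    intro t ht
    have hxt : x * t * x⁻¹ ∈ chevG2.diagonalSubgroup K := H18.OT.conj_mem hx ht
    refine hmem _ (mul_mem hxt ht) fun b hb => ?_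
    have h1 := hw.chi t ht (w ⟨b, hb.1⟩)
    rw [hww, hneg] at h1
    change chi chevG2 K (x * t * x⁻¹) b = chi chevG2 K t (ng ⟨b, hb.1⟩) at h1
    rw [chi_mul hD hxt ht, h1, H18.OT.chi_ng ht, inv_mul_cancel₀ (chi_ne_zero hD ht b)]

end G2

end Cfsg.Agent.H65.OT
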